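import Groth.Agent.DEquiv.K353.Calc
import Groth.Agent.Dual.H379.TwistMain
import Groth.Agent.Dual.H307.BcGen
import Groth.Agent.Dcoh.DualMap
import Groth.Agent.Dcoh.MonAdj
import Groth.Agent.S1002
import Groth.Agent.S1766
import Groth.Agent.S2231
import Groth.Agent.S3637
import Groth.Agent.Sga5.H855.ConeH
import Groth.Prelude.Def_DualFM

/-!
# Duals of direct images and of Fourier–Mukai transforms

* `nonempty_dual_push` (abstract): `L ⊣ R ⊣ a`, `T ⊣ T'`, `- ⊗ K ≅ R T L`, `K'` dual to `K`: `K' ≅ R T' a 1`;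
* `dual_rpush`: `(Rq_* (A ⊗ B))^∨ ≅ Rq_* ((q^× O ⊗ B^∨) ⊗ A^∨)`;
* `univ_snd`: base change of the relative dualizing complex;
* `nonempty_RSheafHom`: `RHom(E, -) ≅ - ⊗ E^∨`.
-/

set_option autoImplicit false

universe u

open CategoryTheory CategoryTheory.Limits AlgebraicGeometry MonoidalCategory

attribute [local instance] HasDerivedCategory.standard

open scoped Groth.Agent.Dcoh.MonCat Groth.Agent.Dcoh.ModD

namespace K578.DualPush

section abs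

universe v v₁ w w₁

variable {C : Type w} [Category.{v} C] [MonoidalCategory C] {D : Type w₁} [Category.{v₁} D]

/-- `L ⊣ R ⊣ a`, `T ⊣ T'`, `- ⊗ K ≅ R T L`: the dual of `K` is `R T' a 1`. -/
theorem nonempty_dual_push {L : C ⥤ D} {R : D ⥤ C} {a : C ⥤ D} (adjL : L ⊣ R) (adjR : R ⊣ a)
    {T T' : D ⥤ D} (adjT : T ⊣ T') (K K' : C) [ExactPairing K K']
    (e : Nonempty (tensorRight K ≅ L ⋙ T ⋙ R)) :
    Nonempty (K' ≅ R.obj (T'.obj (a.obj (𝟙_ C)))) := by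
  obtain ⟨e⟩ := e
  let A1 : L ⋙ T ⋙ R ⊣ (a ⋙ T') ⋙ R := adjL.comp (adjT.comp adjR)
  let A2 : tensorRight K ⊣ tensorRight K' := tensorRightAdjunction K K'
  let i : tensorRight K' ≅ (a ⋙ T') ⋙ R := A2.rightAdjointUniq (A1.ofNatIsoLeft e.symm)
  exact ⟨(λ_ K').symm ≪≫ i.app (𝟙_ C)⟩

end abs

open K353 K353.Calc K353.OnSub Groth.Agent Groth.Agent.Dcoh Groth.Agent.Dual.H379

variable {X Y Z S : Scheme.{u}}

section rpush

variable (q : Z ⟶ Y) [QuasiCompact q] [QuasiSeparated q] [DCoh.HasLpull q] [DCoh.HasRpush q]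
  (hq : DCoh.RpushPreservesQCoh q)

/-- Projection formula on `D_QCoh`. -/
theorem nonempty_projQ (M : DCoh.DQCoh Z) :
    Nonempty (tensorRight ((DCoh.RpushQ q hq).obj M) ≅
      TwistMain.LQ q ⋙ tensorRight M ⋙ DCoh.RpushQ q hq) := by
  obtain ⟨e⟩ := proj_left q M.obj M.property
  let e' : tensorRight ((DCoh.RpushQ q hq).obj M) ⋙ ObjectProperty.ι DCoh.IsQCohD ≅
      (TwistMain.LQ q ⋙ tensorRight M ⋙ DCoh.RpushQ q hq) ⋙ ObjectProperty.ι DCoh.IsQCohD := e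
  exact ⟨Functor.fullyFaithfulCancelRight (ObjectProperty.ι DCoh.IsQCohD) e'⟩

/-- The dual of a direct image. -/
theorem dual_rpushQ {qx : DCoh.DQCoh Y ⥤ DCoh.DQCoh Z} (adj : DCoh.RpushQ q hq ⊣ qx)
    (A A' B B' : DCoh.DQCoh Z) [ExactPairing A A'] [ExactPairing B B']
    (K K' : DCoh.DQCoh Y) [ExactPairing K K'] (e : K ≅ (DCoh.RpushQ q hq).obj (A ⊗ B)) :
    Nonempty (K' ≅ (DCoh.RpushQ q hq).obj ((qx.obj (𝟙_ _) ⊗ B') ⊗ A')) := by
  obtain ⟨f⟩ := nonempty_projQ q hq (A ⊗ B)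
  exact nonempty_dual_push (TwistMain.adjQ q hq) adj
    ((tensorRightAdjunction A A').comp (tensorRightAdjunction B B')) K K'
    ⟨MonAdj.tensorRightIso e ≪≫ f ≪≫ Functor.isoWhiskerLeft _
      (Functor.isoWhiskerRight (tensorRightTensor A B) _)⟩

/-- **The dual of a direct image**: `(Rq_* (A ⊗ B))^∨ ≅ Rq_* ((q^× O ⊗ B^∨) ⊗ A^∨)`. -/
theorem dual_rpush [CompactSpace Z] [QuasiSeparatedSpace Z] [CompactSpace Y] [QuasiSeparatedSpace Y]
    {Ω : DCoh.D Z} (hΩ : Ega1.ADualUniv.Univ q (DCoh.inD Y (Coh.structureModule Y)) Ω)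
    {A A' B B' : DCoh.D Z} (hA : DCoh.IsQCohD A) (hA' : DCoh.IsQCohD A') (hB : DCoh.IsQCohD B)
    (hB' : DCoh.IsQCohD B') (pA : ExactPairing A A') (pB : ExactPairing B B')
    {K K' : DCoh.D Y} (hK : DCoh.IsQCohD K) (hK' : DCoh.IsQCohD K') (pK : ExactPairing K K')
    (e : Nonempty (K ≅ (DCoh.Rpush q).obj (A ⊗ B))) :
    Nonempty (K' ≅ (DCoh.Rpush q).obj ((Ω ⊗ B') ⊗ A')) := by
  obtain ⟨e⟩ := e
  have hq : DCoh.RpushPreservesQCoh q := fun K hK => qc_rpush q K hK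
  have hl : (DCoh.RpushQ q hq).IsLeftAdjoint := S1766.result Z Y q hq
  let adj : DCoh.RpushQ q hq ⊣ (DCoh.RpushQ q hq).rightAdjoint := Adjunction.ofIsLeftAdjoint _
  let A₁ : DCoh.DQCoh Z := ⟨A, hA⟩
  let A₁' : DCoh.DQCoh Z := ⟨A', hA'⟩
  let B₁ : DCoh.DQCoh Z := ⟨B, hB⟩
  let B₁' : DCoh.DQCoh Z := ⟨B', hB'⟩
  let K₁ : DCoh.DQCoh Y := ⟨K, hK⟩
  let K₁' : DCoh.DQCoh Y := ⟨K', hK'⟩
  let _ : ExactPairing A₁.obj A₁'.obj := pA
  let _ : ExactPairing B₁.obj B₁'.obj := pB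
  let _ : ExactPairing K₁.obj K₁'.obj := pK
  let _ := FullMon.pairing DCoh.IsQCohD A₁ A₁'
  let _ := FullMon.pairing DCoh.IsQCohD B₁ B₁'
  let _ := FullMon.pairing DCoh.IsQCohD K₁ K₁'
  obtain ⟨f⟩ := dual_rpushQ q hq adj A₁ A₁' B₁ B₁' K₁ K₁' (ObjectProperty.isoMk _ e)
  have h1 : Ega1.ADualUniv.Univ q (𝟙_ (DCoh.D Y)) ((DCoh.RpushQ q hq).rightAdjoint.obj (𝟙_ _)).obj :=
    Ega1.ADualUniv.univ_of_adj (h := hq) adj (𝟙_ (DCoh.DQCoh Y))
  obtain ⟨w⟩ := h1.unique (hΩ.of_iso_right (DualX.unitIso Y))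
  exact ⟨(ObjectProperty.ι DCoh.IsQCohD).mapIso f ≪≫
    (DCoh.Rpush q).mapIso (whiskerRightIso (whiskerRightIso w B') A')⟩

end rpush

/-- `RHom(E, -) ≅ - ⊗ E^∨`. -/
theorem nonempty_RSheafHom (E : CochainComplex X.Modules ℤ) [DCoh.HasLTensorCx E] [DCoh.HasRSheafHom E]
    (E' : DCoh.D X) (p : ExactPairing (DCoh.toD X E) E') : Nonempty (tensorRight E' ≅ DCoh.RSheafHom E) :=
  MonAdj.nonempty_dual (K := DCoh.toD X E) E' (ltensorCx E) (DCoh.RSheafHomAdj E)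

/-- `RHom(E, O) ≅ E^∨`. -/
theorem nonempty_RSheafHom_unit (E : CochainComplex X.Modules ℤ) [DCoh.HasLTensorCx E]
    [DCoh.HasRSheafHom E] (E' : DCoh.D X) (p : ExactPairing (DCoh.toD X E) E') :
    Nonempty ((DCoh.RSheafHom E).obj (DCoh.inD X (Coh.structureModule X)) ≅ E') := by
  obtain ⟨e⟩ := nonempty_RSheafHom E E' p
  exact ⟨(e.app _).symm ≪≫ whiskerRightIso (DualX.unitIso X) E' ≪≫ λ_ E'⟩

/-- `(A⟦n⟧) ⊗ B ≅ (A ⊗ B)⟦n⟧`. -/
theorem nonempty_shift_tensor (A B : DCoh.D X) (n : ℤ) :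
    Nonempty ((A⟦n⟧ : DCoh.D X) ⊗ B ≅ ((A ⊗ B : DCoh.D X)⟦n⟧ : DCoh.D X)) := by
  obtain ⟨_, _⟩ := TwistMain.isTriang_tensorRight B
  exact ⟨((tensorRight B).commShiftIso n).app A⟩

/-- An object whose cohomology is concentrated in degree `-n`. -/
theorem nonempty_iso_shift (K : DCoh.D X) (n : ℤ) (h : ∀ i : ℤ, i ≠ -n → IsZero (DCoh.HD K i)) :
    Nonempty (K ≅ (DCoh.inD X (DCoh.HD K (-n)))⟦n⟧) := by
  obtain ⟨e⟩ := Sga5.H855.ConeH.exists_iso_single K (-n) h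
  exact ⟨e ≪≫ (((DerivedCategory.singleFunctors X.Modules).shiftIso n (-n) 0 (by lia)).app _).symm⟩

section phi

variable {k : Type u} [Field k] (a : X ⟶ Spec (CommRingCat.of k)) (b : Y ⟶ Spec (CommRingCat.of k))
  [IsProper a] [QuasiCompact b] [QuasiSeparated b]

/-- The relative dualizing complex of `X × Y → Y` is the pullback of the dualizing complex of `X`. -/
theorem univ_snd [DCoh.HasRpush a] [DCoh.HasLpull (pullback.fst a b)] [DCoh.HasRpush (pullback.snd a b)]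
    {Ω : DCoh.D X} (hΩ : Ega1.ADualUniv.Univ a (DCoh.inD (Spec (CommRingCat.of k))
      (Coh.structureModule (Spec (CommRingCat.of k)))) Ω) :
    Ega1.ADualUniv.Univ (pullback.snd a b) (DCoh.inD Y (Coh.structureModule Y))
      ((DCoh.Lpull (pullback.fst a b)).obj Ω) := by
  have := hasLpull b
  have : Flat a := inferInstance
  have : LocallyOfFinitePresentation a :=
    LocallyOfFinitePresentation.iff_locallyOfFiniteType.2 inferInstance
  have : CompactSpace X := QuasiCompact.compactSpace_of_compactSpace a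
  have : QuasiSeparatedSpace X := quasiSeparatedSpace_of_quasiSeparated a
  have : CompactSpace Y := QuasiCompact.compactSpace_of_compactSpace b
  have : QuasiSeparatedSpace Y := quasiSeparatedSpace_of_quasiSeparated b
  have : CompactSpace ↥(pullback a b) := QuasiCompact.compactSpace_of_compactSpace (pullback.snd a b)
  have : QuasiSeparatedSpace ↥(pullback a b) :=
    quasiSeparatedSpace_of_quasiSeparated (pullback.snd a b)
  have h := Dual.H307.BcGen.univ_bc (Or.inl inferInstance) (IsPullback.of_hasPullback a b)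
    (fun P hP => S1002.result a P hP)
    (DQMon.isQCohD_of_iso (DualX.unitIso _).symm DQMon.isQCohD_unit) hΩ
  let _ := DQMon.lpullMon b
  refine h.of_iso_right ((DCoh.Lpull b).mapIso (DualX.unitIso _) ≪≫
    (Functor.Monoidal.εIso (DCoh.Lpull b)).symm ≪≫ (DualX.unitIso Y).symm)

/-- **Duality for Fourier–Mukai transforms**: `(Rq_* (Lp^* E ⊗ P))^∨ ≅ Rq_* (Lp^* (a^× O ⊗ E^∨) ⊗ P^∨)`. -/
theorem dual_phi [DCoh.HasRpush a] [DCoh.HasLpull (pullback.fst a b)]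
    [DCoh.HasRpush (pullback.snd a b)]
    {Ω : DCoh.D X} (hΩ : Ega1.ADualUniv.Univ a (DCoh.inD (Spec (CommRingCat.of k))
      (Coh.structureModule (Spec (CommRingCat.of k)))) Ω)
    {P P' : DCoh.D (pullback a b)} (hP : DCoh.IsQCohD P) (hP' : DCoh.IsQCohD P') (pP : ExactPairing P P')
    {E E' : DCoh.D X} (hE : DCoh.IsQCohD E) (hE' : DCoh.IsQCohD E') (pE : ExactPairing E E')
    {K K' : DCoh.D Y} (hK : DCoh.IsQCohD K) (hK' : DCoh.IsQCohD K') (pK : ExactPairing K K')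
    (e : Nonempty (K ≅ (DCoh.Rpush (pullback.snd a b)).obj ((DCoh.Lpull (pullback.fst a b)).obj E ⊗ P))) :
    Nonempty (K' ≅ (DCoh.Rpush (pullback.snd a b)).obj
      ((DCoh.Lpull (pullback.fst a b)).obj (Ω ⊗ E') ⊗ P')) := by
  obtain ⟨e⟩ := e
  have := hasLpull (pullback.snd a b)
  have : CompactSpace Y := QuasiCompact.compactSpace_of_compactSpace b
  have : QuasiSeparatedSpace Y := quasiSeparatedSpace_of_quasiSeparated b
  have : CompactSpace ↥(pullback a b) := QuasiCompact.compactSpace_of_compactSpace (pullback.snd a b)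
  have : QuasiSeparatedSpace ↥(pullback a b) :=
    quasiSeparatedSpace_of_quasiSeparated (pullback.snd a b)
  let _ := DQMon.lpullMon (pullback.fst a b)
  let _ := pE
  obtain ⟨s⟩ := braid P
  obtain ⟨t⟩ := lpull_tensor (pullback.fst a b) E'
  obtain ⟨f⟩ := dual_rpush (pullback.snd a b) (univ_snd a b hΩ) hP hP'
    (qc_lpull (pullback.fst a b) E hE) (qc_lpull (pullback.fst a b) E' hE') pP
    (DualMap.mapPairing (DCoh.Lpull (pullback.fst a b)) E E') hK hK' pK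
    ⟨e ≪≫ (DCoh.Rpush (pullback.snd a b)).mapIso (s.app _)⟩
  exact ⟨f ≪≫ (DCoh.Rpush (pullback.snd a b)).mapIso (whiskerRightIso (t.app Ω).symm P')⟩

omit [QuasiCompact b] [QuasiSeparated b] in
/-- `a^× O ≅ ω_X[d]` on an equidimensional Cohen–Macaulay proper scheme. -/
theorem nonempty_omega (hXcm : ∀ x : ↥X, LocCoh.IsCohenMacaulayLocalRing ↑(X.presheaf.stalk x))
    (d : ℕ) (hXeq : ∀ Z ∈ irreducibleComponents ↥X, topologicalKrullDim ↥Z = (d : WithBot ℕ∞))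
    [DCoh.HasRpush a] (ha : DCoh.RpushPreservesQCoh a)
    (adx : DCoh.DQCoh (Spec (CommRingCat.of k)) ⥤ DCoh.DQCoh X) (adj : DCoh.RpushQ a ha ⊣ adx)
    (O : DCoh.DQCoh (Spec (CommRingCat.of k)))
    (hO : Nonempty (O.obj ≅ DCoh.inD (Spec (CommRingCat.of k)) (Coh.structureModule (Spec (CommRingCat.of k))))) :
    Nonempty ((adx.obj O).obj ≅ (DCoh.inD X (DCoh.HD (adx.obj O).obj (-(d : ℤ))))⟦(d : ℤ)⟧) :=
  nonempty_iso_shift (adx.obj O).obj (d : ℤ)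
    (S3637.result k X a hXcm d (fun Z hZ => hXeq Z hZ) ha adx adj O hO).1

/-- **Duality for Fourier–Mukai transforms** in terms of `ω_X`, with the dual `K'` of the transform, the dual
`E'` of the argument and the dual `P'` of the kernel. -/
theorem dual_phi_omega (hXcm : ∀ x : ↥X, LocCoh.IsCohenMacaulayLocalRing ↑(X.presheaf.stalk x))
    (d : ℕ) (hXeq : ∀ Z ∈ irreducibleComponents ↥X, topologicalKrullDim ↥Z = (d : WithBot ℕ∞))
    [DCoh.HasRpush a] (ha : DCoh.RpushPreservesQCoh a)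
    (adx : DCoh.DQCoh (Spec (CommRingCat.of k)) ⥤ DCoh.DQCoh X) (adj : DCoh.RpushQ a ha ⊣ adx)
    (O : DCoh.DQCoh (Spec (CommRingCat.of k)))
    (hO : Nonempty (O.obj ≅ DCoh.inD (Spec (CommRingCat.of k)) (Coh.structureModule (Spec (CommRingCat.of k)))))
    (P : CochainComplex (pullback a b).Modules ℤ) (hP : DCoh.IsPerfect (DCoh.toD (pullback a b) P))
    [DCoh.HasLpull (pullback.fst a b)] [DCoh.HasLTensorCx P] [DCoh.HasRSheafHom P]
    [DCoh.HasRpush (pullback.snd a b)]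
    (P' : CochainComplex (pullback a b).Modules ℤ) [DCoh.HasLTensorCx P']
    (hP' : Nonempty (DCoh.toD (pullback a b) P' ≅
      (DCoh.RSheafHom P).obj (DCoh.inD (pullback a b) (Coh.structureModule (pullback a b)))))
    (E : CochainComplex X.Modules ℤ) (hE : DCoh.IsPerfect (DCoh.toD X E)) [DCoh.HasLTensorCx E]
    [DCoh.HasRSheafHom E] (K K' : DCoh.D Y) (pK : ExactPairing K K')
    (hK : Nonempty (K ≅ (FMK.phi a b P).obj (DCoh.toD X E))) :
    Nonempty (K' ≅ (FMK.phi a b P').obj ((shiftFunctor (DCoh.D X) (d : ℤ)).obj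
        ((DCoh.RSheafHom E).obj (DCoh.inD X (DCoh.HD (adx.obj O).obj (-(d : ℤ))))))) := by
  have ePerf : ∀ {W : Scheme.{u}} {K : DCoh.D W}, DCoh.IsPerfect K → DCoh.IsQCohD K := fun hK =>
    LoccohB.PerfQCoh.isQCohD_of_isPerfect hK
  have : Flat a := inferInstance
  have : LocallyOfFinitePresentation a :=
    LocallyOfFinitePresentation.iff_locallyOfFiniteType.2 inferInstance
  obtain ⟨w⟩ := nonempty_omega a hXcm d hXeq ha adx adj O hO
  obtain ⟨eK⟩ := hK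
  obtain ⟨eP'⟩ := hP'
  obtain ⟨eO⟩ := hO
  have hphi : DCoh.IsPerfect ((FMK.phi a b P).obj (DCoh.toD X E)) :=
    S2231.result a b P hP _ hE
  have hKp : DCoh.IsPerfect K := PerfA.PerfLocal.isPerfect_of_iso eK.symm hphi
  obtain ⟨P₁, hP₁, ⟨pP⟩⟩ := PerfDual.exists_exactPairing _ hP
  obtain ⟨E₁, hE₁, ⟨pE⟩⟩ := PerfDual.exists_exactPairing _ hE
  obtain ⟨K₁, hK₁, ⟨pK₁⟩⟩ := PerfDual.exists_exactPairing _ hKp
  have hU : Ega1.ADualUniv.Univ a (DCoh.inD (Spec (CommRingCat.of k))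
      (Coh.structureModule (Spec (CommRingCat.of k)))) (adx.obj O).obj :=
    (Ega1.ADualUniv.univ_of_adj (h := ha) adj O).of_iso_right eO
  obtain ⟨l⟩ := ltensorCx P
  obtain ⟨l'⟩ := ltensorCx P'
  obtain ⟨f⟩ := dual_phi a b hU (ePerf hP) (ePerf hP₁) pP (ePerf hE) (ePerf hE₁) pE
    (ePerf hKp) (ePerf hK₁) pK₁ ⟨eK ≪≫ (DCoh.Rpush (pullback.snd a b)).mapIso (l.app _)⟩
  have r : K' ≅ K₁ := (λ_ K').symm ≪≫ ((tensorRightAdjunction K K').rightAdjointUniq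
    (tensorRightAdjunction K K₁)).app (𝟙_ _) ≪≫ λ_ K₁
  obtain ⟨rP⟩ := nonempty_RSheafHom_unit P P₁ pP
  obtain ⟨rE⟩ := nonempty_RSheafHom E E₁ pE
  obtain ⟨t⟩ := nonempty_shift_tensor (DCoh.inD X (DCoh.HD (adx.obj O).obj (-(d : ℤ)))) E₁ (d : ℤ)
  let v : (adx.obj O).obj ⊗ E₁ ≅ (shiftFunctor (DCoh.D X) (d : ℤ)).obj
      ((DCoh.RSheafHom E).obj (DCoh.inD X (DCoh.HD (adx.obj O).obj (-(d : ℤ))))) :=
    whiskerRightIso w E₁ ≪≫ t ≪≫ (shiftFunctor (DCoh.D X) (d : ℤ)).mapIso (rE.app _)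
  exact ⟨r ≪≫ f ≪≫ (DCoh.Rpush (pullback.snd a b)).mapIso
    (whiskerRightIso ((DCoh.Lpull (pullback.fst a b)).mapIso v) P₁ ≪≫
      whiskerLeftIso _ (rP.symm ≪≫ eP'.symm) ≪≫ (l'.app _).symm)⟩

end phi

end K578.DualPush
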