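import Groth.Agent.FMK.K884.DualP
import Groth.Agent.FMK.K578.DualPush
import Groth.Agent.Ega4A.DepthBasic
import Groth.Agent.S1737
import Groth.Agent.S2663

/-!
# Minimal resolutions of torsion-free modules

`le_depth_of_min`: if `E` is a bounded minimal complex of finite projective modules over a noetherian local ring
with `H^j(E) = 0` for `j ≠ 0`, `H^0(E)` torsion-free and `E^{-i} ≠ 0` with `i > 0`, then `i + 1 ≤ depth R`.
-/

set_option autoImplicit false

universe u

open CategoryTheory CategoryTheory.Limits IsLocalRing AlgebraicGeometry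

attribute [local instance] HasDerivedCategory.standard

namespace K578.MReg

open K884 K884.LocAB

section local_

variable {R : Type u} [CommRing R] [IsLocalRing R] [IsNoetherianRing R]
  {E : CochainComplex (ModuleCat.{u} R) ℤ} (hE : IsMin E)

include hE

omit [IsNoetherianRing R] in
/-- A minimal complex bounded above with no cohomology in positive degrees vanishes in positive degrees. -/
lemma isZero_X_pos (hi : ℤ) (hhi : ∀ i, hi < i → IsZero (E.X i))
    (hex : ∀ i, 0 < i → IsZero (E.homology i)) (j : ℤ) (hj : 0 < j) : IsZero (E.X j) := by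
  have key : ∀ m : ℕ, ∀ j : ℤ, 0 < j → hi < j + m → IsZero (E.X j) := by
    intro m
    induction m with
    | zero => intro j _ h; exact hhi j (by simpa using h)
    | succ m ih =>
      intro j hj h
      exact isZero_X_of_homology hE j (ih (j + 1) (by lia) (by push_cast at h; lia)) (hex j hj)
  exact key (hi - j + 1).toNat j hj (by have := Int.self_le_toNat (hi - j + 1); lia)

theorem le_depth_of_min (lo hi : ℤ) (hlo : ∀ i, i < lo ∨ hi < i → IsZero (E.X i))
    (hex : ∀ i, i ≠ 0 → IsZero (E.homology i))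
    (htf : ∀ r ∈ nonZeroDivisors R, ∀ m : E.homology 0, r • m = 0 → m = 0)
    (i : ℕ) (hi0 : 0 < i) (h : ¬ IsZero (E.X (-(i : ℤ)))) :
    ((i + 1 : ℕ) : ℕ∞) ≤ LocCoh.depth R R := by
  have h1 : IsZero (E.X 1) := isZero_X_pos hE hi (fun i hi => hlo i (Or.inr hi))
    (fun i hi => hex i (by lia)) 1 (by lia)
  let e : E.homology 0 ≅ E.opcycles 0 := E.isoHomologyι 0 1 (by simp) (h1.eq_of_tgt _ _)
  have hf : Module.Finite R (E.opcycles 0) := finite_opcycles hE 0
  have hpd : HasProjectiveDimensionLE (E.opcycles 0) (-lo).toNat :=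
    pd_opcycles hE lo (fun i hi => hlo i (Or.inl hi)) (-lo).toNat 0
      (by have := Int.self_le_toNat (-lo); lia) (fun i hi => hex i (by lia))
  have hex' : ∀ i, i < 0 → IsZero (E.homology i) := fun i hi => hex i (by lia)
  have h0 : ¬ IsZero (E.opcycles 0) := by
    intro h0
    have : HasProjectiveDimensionLT (E.opcycles 0) 0 := (hasProjectiveDimensionLT_zero_iff_isZero _).2 h0
    exact h (isZero_of_pd hE 0 0 hex' (hasProjectiveDimensionLT_of_ge _ 0 1 (by lia)) _ (by simp; lia))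
  have hnt : Nontrivial (E.opcycles 0) := by
    rw [← not_subsingleton_iff_nontrivial, ← ModuleCat.isZero_iff_subsingleton]
    exact h0
  obtain ⟨n, hn⟩ : ∃ n : ℕ, projectiveDimension (E.opcycles 0) = n := by
    have h1 : projectiveDimension (E.opcycles 0) ≤ (((-lo).toNat : ℕ) : WithBot ℕ∞) :=
      (projectiveDimension_le_iff _ _).2 hpd
    have h2 : projectiveDimension (E.opcycles 0) ≠ ⊥ := by
      rw [Ne, projectiveDimension_eq_bot_iff]
      exact h0
    obtain ⟨x, hx⟩ := WithBot.ne_bot_iff_exists.1 h2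
    rw [← hx] at h1
    have h3 : x ≤ (((-lo).toNat : ℕ) : ℕ∞) := WithBot.coe_le_coe.1 h1
    obtain ⟨e, he⟩ := ENat.ne_top_iff_exists.1 (ne_top_of_le_ne_top (ENat.natCast_ne_top _) h3)
    exact ⟨e, by rw [← hx, ← he]; rfl⟩
  have hin : i ≤ n := by
    by_contra hlt
    exact h (isZero_of_pd hE n 0 hex' ((projectiveDimension_le_iff _ _).1 hn.le) _ (by lia))
  have hd := Groth.Agent.S0604.result R (E.opcycles 0) n hn
  have hR : 1 ≤ LocCoh.depth R R := by
    rw [hd]
    refine le_trans ?_ (le_self_add)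
    exact_mod_cast (by lia : 1 ≤ n)
  obtain ⟨y, hy, hreg⟩ := Groth.Agent.S2663.exists_regular_of_one_le hR
  have hy0 : y ∈ nonZeroDivisors R := by
    rw [mem_nonZeroDivisors_iff_right]
    intro x hx
    apply hreg
    simpa [mul_comm] using hx
  have hM : 1 ≤ LocCoh.depth R (E.opcycles 0) := by
    refine Groth.Agent.S1737.one_le_depth (fun x hx => ?_)
    have h2 : y • (e.inv.hom x) = 0 := by
      rw [← map_smul, hx y hy, map_zero]
    have h3 := htf y hy0 _ h2
    have h4 : e.hom.hom (e.inv.hom x) = x := congrArg (fun f => f.hom x) e.inv_hom_id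
    rw [← h4, h3, map_zero]
  rw [hd]
  push_cast
  exact add_le_add (by exact_mod_cast hin) hM

end local_

section sheaf

open Groth.Agent.Dcoh.StalkMod

variable {Y : Scheme.{u}}

lemma isZero_HD_inD (G : Y.Modules) (i : ℤ) (hi : i ≠ 0) : IsZero (DCoh.HD (DCoh.inD Y G) i) := by
  rcases lt_or_gt_of_ne hi with h | h
  · exact DerivedCategory.isZero_of_isGE ((DerivedCategory.singleFunctor Y.Modules 0).obj G) 0 i h
  · exact DerivedCategory.isZero_of_isLE ((DerivedCategory.singleFunctor Y.Modules 0).obj G) 0 i h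

/-- A torsion-free module `G` which is perfect as a complex: if `H^{-i}(G ⊗ κ(y)) ≠ 0` with `i > 0` then
`i + 1 ≤ dim O_{Y,y}`. -/
theorem le_dim_of_not_fibZero [IsLocallyNoetherian Y] (G : Y.Modules) (hG : DCoh.IsPerfect (DCoh.inD Y G))
    (y : Y) (htf : ∀ r ∈ nonZeroDivisors ↑(Y.presheaf.stalk y), ∀ m : ↑(G.presheaf.stalk y),
      r • m = 0 → m = 0) (i : ℕ) (hi : 0 < i) (h : ¬ Fib.FibZero (DCoh.inD Y G) y (-(i : ℤ))) :
    ((i + 1 : ℕ) : WithBot ℕ∞) ≤ ringKrullDim ↑(Y.presheaf.stalk y) := by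
  have := Groth.Agent.Dcoh.DerPull.hasLpull (Y.fromSpecResidueField y)
  obtain ⟨E, n, a, b, hE, h2, h3, h4, h5⟩ := Model.exists_localModel (DCoh.inD Y G) hG y
  obtain ⟨e⟩ := h4 0
  let e' : E.homology 0 ≅ (stalkMod y).obj G := e ≪≫ (stalkMod y).mapIso
    ((DerivedCategory.singleFunctorCompHomologyFunctorIso Y.Modules 0).app G)
  have key : ((i + 1 : ℕ) : ℕ∞) ≤ LocCoh.depth ↑(Y.presheaf.stalk y) ↑(Y.presheaf.stalk y) := by
    refine le_depth_of_min hE a b (fun i hi => (h3 i).1 (h2 i hi)) (fun j hj => ?_) (fun r hr m hm => ?_) i hi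
      (fun h6 => h ((h5 _).1 ((h3 _).2 h6)))
    · obtain ⟨e₁⟩ := h4 j
      exact (Functor.map_isZero (stalkMod y) (isZero_HD_inD G j hj)).of_iso e₁
    · have h7 : r • (e'.hom.hom m) = 0 := by rw [← map_smul, hm, map_zero]
      have h8 := htf r hr (e'.hom.hom m) h7
      have h9 : e'.inv.hom (e'.hom.hom m) = m := congrArg (fun f => f.hom m) e'.hom_inv_id
      rw [← h9, h8]
      exact map_zero e'.inv.hom
  have h6 := Groth.Agent.Ega4A.DepthBasic.depth_le_supportDim (R := ↑(Y.presheaf.stalk y))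
    ↑(Y.presheaf.stalk y)
  rw [Module.supportDim_self_eq_ringKrullDim] at h6
  exact le_trans (by exact_mod_cast WithBot.coe_le_coe.2 key) h6

end sheaf

section phi

open Groth.Agent Groth.Agent.Dual.H379 K353.Calc MonoidalCategory

open scoped Groth.Agent.Dcoh.MonCat Groth.Agent.Dcoh.ModD

variable {X Y S : Scheme.{u}} (a : X ⟶ S) (b : Y ⟶ S)

/-- Kernel functors commute with shifts. -/
theorem nonempty_phi_shift [DCoh.HasLpull (pullback.fst a b)] [DCoh.HasRpush (pullback.snd a b)]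
    (P : CochainComplex (pullback a b).Modules ℤ) [DCoh.HasLTensorCx P] (M : DCoh.D X) (n : ℤ) :
    Nonempty ((FMK.phi a b P).obj (M⟦n⟧) ≅ ((FMK.phi a b P).obj M)⟦n⟧) := by
  obtain ⟨_, _⟩ := PerfC.ProjAbs291.isTriang_Lpull (pullback.fst a b)
  obtain ⟨_, _⟩ := TwistMain.isTriang_tensorRight (DCoh.toD _ P)
  obtain ⟨_, _, -⟩ := LoccohB.RpushTri.exists_isTriangulated_Rpush (pullback.snd a b)
  obtain ⟨l⟩ := ltensorCx P
  exact ⟨(DCoh.Rpush (pullback.snd a b)).mapIso ((l.app _) ≪≫ (tensorRight (DCoh.toD _ P)).mapIso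
      (((DCoh.Lpull (pullback.fst a b)).commShiftIso n).app M) ≪≫
      ((tensorRight (DCoh.toD _ P)).commShiftIso n).app _ ≪≫
      (shiftFunctor (DCoh.D (pullback a b)) n).mapIso (l.app _).symm) ≪≫
    ((DCoh.Rpush (pullback.snd a b)).commShiftIso n).app _⟩

end phi

open MonoidalCategory in
open scoped Groth.Agent.Dcoh.MonCat Groth.Agent.Dcoh.ModD in
/-- If the dual of a perfect complex `K` is a torsion-free module in degree `0`, then
`dim O_{Y,y} ≥ i + 1` for `y` in the support of `H^i(K)`, `i > 0`. -/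
theorem le_dim_of_isDual {Y : Scheme.{u}} [IsLocallyNoetherian Y] {K : DCoh.D Y} (hK : DCoh.IsPerfect K)
    (G : Y.Modules) (hG : DualP.IsDual K (DCoh.inD Y G))
    (htf : ∀ (y : ↥Y) (r : ↑(Y.presheaf.stalk y)), r ∈ nonZeroDivisors ↑(Y.presheaf.stalk y) →
      ∀ m : ↑(G.presheaf.stalk y), r • m = 0 → m = 0)
    (i : ℕ) (hi : 0 < i) (y : ↥Y) (hy : y ∈ CohB1.support (DCoh.HD K (i : ℤ))) :
    ((i + 1 : ℕ) : WithBot ℕ∞) ≤ ringKrullDim ↑(Y.presheaf.stalk y) := by
  refine le_dim_of_not_fibZero G (hG.isPerfect hK) y (htf y) i hi (fun h => ?_)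
  rw [hG.fibZero_iff hK, neg_neg] at h
  exact Fib.not_fibZero_of_mem hK y i hy h

end K578.MReg
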